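import Cfsg.Agent.Lib.Fi22USix.DataS
import Cfsg.Agent.Lib.Leech.Sub.Split
import Cfsg.Agent.Lib.Schur.LevPieces

/-! Kernel checks of the chain: elements. -/

set_option autoImplicit false
-- the pieces are checked one after another, which keeps the peak memory low
set_option Elab.async false
set_option maxRecDepth 100000

namespace CfsgLib.Fi22USix

open CfsgLib.Schur.MonoCover CfsgLib.Leech

theorem tabChkS_0 : pieceOK 40 (List.range dataS.nE) (dataS.tabChk) 0 = true := by decide +kernel

theorem tabChkS_1 : pieceOK 40 (List.range dataS.nE) (dataS.tabChk) 1 = true := by decide +kernel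

theorem tabChkS_2 : pieceOK 40 (List.range dataS.nE) (dataS.tabChk) 2 = true := by decide +kernel

theorem tabChkS_3 : pieceOK 40 (List.range dataS.nE) (dataS.tabChk) 3 = true := by decide +kernel

theorem tabChkS_4 : pieceOK 40 (List.range dataS.nE) (dataS.tabChk) 4 = true := by decide +kernel

theorem tabChkS_5 : pieceOK 40 (List.range dataS.nE) (dataS.tabChk) 5 = true := by decide +kernel

theorem tabChkS_6 : pieceOK 40 (List.range dataS.nE) (dataS.tabChk) 6 = true := by decide +kernel

theorem tabChkS_7 : pieceOK 40 (List.range dataS.nE) (dataS.tabChk) 7 = true := by decide +kernel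

theorem tabChkS_8 : pieceOK 40 (List.range dataS.nE) (dataS.tabChk) 8 = true := by decide +kernel

theorem tabChkS_9 : pieceOK 40 (List.range dataS.nE) (dataS.tabChk) 9 = true := by decide +kernel

theorem tabChkS_10 : pieceOK 40 (List.range dataS.nE) (dataS.tabChk) 10 = true := by decide +kernel

theorem tabChkS_11 : pieceOK 40 (List.range dataS.nE) (dataS.tabChk) 11 = true := by decide +kernel

theorem tabChkS_12 : pieceOK 40 (List.range dataS.nE) (dataS.tabChk) 12 = true := by decide +kernel

theorem tabChkS_13 : pieceOK 40 (List.range dataS.nE) (dataS.tabChk) 13 = true := by decide +kernel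

theorem tabChkS_14 : pieceOK 40 (List.range dataS.nE) (dataS.tabChk) 14 = true := by decide +kernel

theorem tabChkS_15 : pieceOK 40 (List.range dataS.nE) (dataS.tabChk) 15 = true := by decide +kernel

theorem tabChkS_16 : pieceOK 40 (List.range dataS.nE) (dataS.tabChk) 16 = true := by decide +kernel

theorem tabChkS_17 : pieceOK 40 (List.range dataS.nE) (dataS.tabChk) 17 = true := by decide +kernel

theorem tabChkS_18 : pieceOK 40 (List.range dataS.nE) (dataS.tabChk) 18 = true := by decide +kernel

theorem tabChkS_19 : pieceOK 40 (List.range dataS.nE) (dataS.tabChk) 19 = true := by decide +kernel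

theorem tabChkS_20 : pieceOK 40 (List.range dataS.nE) (dataS.tabChk) 20 = true := by decide +kernel

theorem tabChkS_21 : pieceOK 40 (List.range dataS.nE) (dataS.tabChk) 21 = true := by decide +kernel

theorem tabChkS_22 : pieceOK 40 (List.range dataS.nE) (dataS.tabChk) 22 = true := by decide +kernel

theorem tabChkS_23 : pieceOK 40 (List.range dataS.nE) (dataS.tabChk) 23 = true := by decide +kernel

theorem tabChkS_24 : pieceOK 40 (List.range dataS.nE) (dataS.tabChk) 24 = true := by decide +kernel

theorem tabChkS_25 : pieceOK 40 (List.range dataS.nE) (dataS.tabChk) 25 = true := by decide +kernel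

theorem tabChkS_all : (List.range dataS.nE).all (dataS.tabChk) = true :=
  all_of_pieces (n := 40) (m := 26) (by decide +kernel) fun i hi =>
    match i, hi with
    | 0, _ => tabChkS_0
    | 1, _ => tabChkS_1
    | 2, _ => tabChkS_2
    | 3, _ => tabChkS_3
    | 4, _ => tabChkS_4
    | 5, _ => tabChkS_5
    | 6, _ => tabChkS_6
    | 7, _ => tabChkS_7
    | 8, _ => tabChkS_8
    | 9, _ => tabChkS_9
    | 10, _ => tabChkS_10
    | 11, _ => tabChkS_11
    | 12, _ => tabChkS_12
    | 13, _ => tabChkS_13
    | 14, _ => tabChkS_14
    | 15, _ => tabChkS_15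
    | 16, _ => tabChkS_16
    | 17, _ => tabChkS_17
    | 18, _ => tabChkS_18
    | 19, _ => tabChkS_19
    | 20, _ => tabChkS_20
    | 21, _ => tabChkS_21
    | 22, _ => tabChkS_22
    | 23, _ => tabChkS_23
    | 24, _ => tabChkS_24
    | 25, _ => tabChkS_25
    | j + 26, h => absurd h (by omega)

theorem defChkS_0 : pieceOK 25 (List.range dataS.nU) (dataS.defChk) 0 = true := by decide +kernel

theorem defChkS_1 : pieceOK 25 (List.range dataS.nU) (dataS.defChk) 1 = true := by decide +kernel

theorem defChkS_2 : pieceOK 25 (List.range dataS.nU) (dataS.defChk) 2 = true := by decide +kernel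

theorem defChkS_3 : pieceOK 25 (List.range dataS.nU) (dataS.defChk) 3 = true := by decide +kernel

theorem defChkS_4 : pieceOK 25 (List.range dataS.nU) (dataS.defChk) 4 = true := by decide +kernel

theorem defChkS_5 : pieceOK 25 (List.range dataS.nU) (dataS.defChk) 5 = true := by decide +kernel

theorem defChkS_6 : pieceOK 25 (List.range dataS.nU) (dataS.defChk) 6 = true := by decide +kernel

theorem defChkS_7 : pieceOK 25 (List.range dataS.nU) (dataS.defChk) 7 = true := by decide +kernel

theorem defChkS_8 : pieceOK 25 (List.range dataS.nU) (dataS.defChk) 8 = true := by decide +kernel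

theorem defChkS_9 : pieceOK 25 (List.range dataS.nU) (dataS.defChk) 9 = true := by decide +kernel

theorem defChkS_10 : pieceOK 25 (List.range dataS.nU) (dataS.defChk) 10 = true := by decide +kernel

theorem defChkS_11 : pieceOK 25 (List.range dataS.nU) (dataS.defChk) 11 = true := by decide +kernel

theorem defChkS_12 : pieceOK 25 (List.range dataS.nU) (dataS.defChk) 12 = true := by decide +kernel

theorem defChkS_13 : pieceOK 25 (List.range dataS.nU) (dataS.defChk) 13 = true := by decide +kernel

theorem defChkS_14 : pieceOK 25 (List.range dataS.nU) (dataS.defChk) 14 = true := by decide +kernel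

theorem defChkS_15 : pieceOK 25 (List.range dataS.nU) (dataS.defChk) 15 = true := by decide +kernel

theorem defChkS_16 : pieceOK 25 (List.range dataS.nU) (dataS.defChk) 16 = true := by decide +kernel

theorem defChkS_17 : pieceOK 25 (List.range dataS.nU) (dataS.defChk) 17 = true := by decide +kernel

theorem defChkS_18 : pieceOK 25 (List.range dataS.nU) (dataS.defChk) 18 = true := by decide +kernel

theorem defChkS_19 : pieceOK 25 (List.range dataS.nU) (dataS.defChk) 19 = true := by decide +kernel

theorem defChkS_20 : pieceOK 25 (List.range dataS.nU) (dataS.defChk) 20 = true := by decide +kernel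

theorem defChkS_21 : pieceOK 25 (List.range dataS.nU) (dataS.defChk) 21 = true := by decide +kernel

theorem defChkS_22 : pieceOK 25 (List.range dataS.nU) (dataS.defChk) 22 = true := by decide +kernel

theorem defChkS_23 : pieceOK 25 (List.range dataS.nU) (dataS.defChk) 23 = true := by decide +kernel

theorem defChkS_24 : pieceOK 25 (List.range dataS.nU) (dataS.defChk) 24 = true := by decide +kernel

theorem defChkS_25 : pieceOK 25 (List.range dataS.nU) (dataS.defChk) 25 = true := by decide +kernel

theorem defChkS_26 : pieceOK 25 (List.range dataS.nU) (dataS.defChk) 26 = true := by decide +kernel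

theorem defChkS_27 : pieceOK 25 (List.range dataS.nU) (dataS.defChk) 27 = true := by decide +kernel

theorem defChkS_28 : pieceOK 25 (List.range dataS.nU) (dataS.defChk) 28 = true := by decide +kernel

theorem defChkS_29 : pieceOK 25 (List.range dataS.nU) (dataS.defChk) 29 = true := by decide +kernel

theorem defChkS_30 : pieceOK 25 (List.range dataS.nU) (dataS.defChk) 30 = true := by decide +kernel

theorem defChkS_31 : pieceOK 25 (List.range dataS.nU) (dataS.defChk) 31 = true := by decide +kernel

theorem defChkS_32 : pieceOK 25 (List.range dataS.nU) (dataS.defChk) 32 = true := by decide +kernel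

theorem defChkS_33 : pieceOK 25 (List.range dataS.nU) (dataS.defChk) 33 = true := by decide +kernel

theorem defChkS_34 : pieceOK 25 (List.range dataS.nU) (dataS.defChk) 34 = true := by decide +kernel

theorem defChkS_35 : pieceOK 25 (List.range dataS.nU) (dataS.defChk) 35 = true := by decide +kernel

theorem defChkS_36 : pieceOK 25 (List.range dataS.nU) (dataS.defChk) 36 = true := by decide +kernel

theorem defChkS_37 : pieceOK 25 (List.range dataS.nU) (dataS.defChk) 37 = true := by decide +kernel

theorem defChkS_38 : pieceOK 25 (List.range dataS.nU) (dataS.defChk) 38 = true := by decide +kernel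

theorem defChkS_all : (List.range dataS.nU).all (dataS.defChk) = true :=
  all_of_pieces (n := 25) (m := 39) (by decide +kernel) fun i hi =>
    match i, hi with
    | 0, _ => defChkS_0
    | 1, _ => defChkS_1
    | 2, _ => defChkS_2
    | 3, _ => defChkS_3
    | 4, _ => defChkS_4
    | 5, _ => defChkS_5
    | 6, _ => defChkS_6
    | 7, _ => defChkS_7
    | 8, _ => defChkS_8
    | 9, _ => defChkS_9
    | 10, _ => defChkS_10
    | 11, _ => defChkS_11
    | 12, _ => defChkS_12
    | 13, _ => defChkS_13
    | 14, _ => defChkS_14
    | 15, _ => defChkS_15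
    | 16, _ => defChkS_16
    | 17, _ => defChkS_17
    | 18, _ => defChkS_18
    | 19, _ => defChkS_19
    | 20, _ => defChkS_20
    | 21, _ => defChkS_21
    | 22, _ => defChkS_22
    | 23, _ => defChkS_23
    | 24, _ => defChkS_24
    | 25, _ => defChkS_25
    | 26, _ => defChkS_26
    | 27, _ => defChkS_27
    | 28, _ => defChkS_28
    | 29, _ => defChkS_29
    | 30, _ => defChkS_30
    | 31, _ => defChkS_31
    | 32, _ => defChkS_32
    | 33, _ => defChkS_33
    | 34, _ => defChkS_34
    | 35, _ => defChkS_35
    | 36, _ => defChkS_36
    | 37, _ => defChkS_37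
    | 38, _ => defChkS_38
    | j + 39, h => absurd h (by omega)

theorem invChkS_all : (List.range dataS.ng).all dataS.invChk = true := by decide +kernel

theorem levPtS_0 : pieceOK 100 (dataS.pts 0) (dataS.levPt 0) 0 = true := by decide +kernel

theorem levPtS_1 : pieceOK 100 (dataS.pts 0) (dataS.levPt 0) 1 = true := by decide +kernel

theorem levPtS_2 : pieceOK 100 (dataS.pts 0) (dataS.levPt 0) 2 = true := by decide +kernel

theorem levPtS_3 : pieceOK 100 (dataS.pts 0) (dataS.levPt 0) 3 = true := by decide +kernel

theorem levPtS_4 : pieceOK 100 (dataS.pts 0) (dataS.levPt 0) 4 = true := by decide +kernel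

theorem levPtS_5 : pieceOK 100 (dataS.pts 0) (dataS.levPt 0) 5 = true := by decide +kernel

theorem levPtS_6 : pieceOK 100 (dataS.pts 0) (dataS.levPt 0) 6 = true := by decide +kernel

theorem levPtS_7 : pieceOK 100 (dataS.pts 0) (dataS.levPt 0) 7 = true := by decide +kernel

theorem levPtS_all : (dataS.pts 0).all (dataS.levPt 0) = true :=
  all_of_pieces (n := 100) (m := 8) (by decide +kernel) fun i hi =>
    match i, hi with
    | 0, _ => levPtS_0
    | 1, _ => levPtS_1
    | 2, _ => levPtS_2
    | 3, _ => levPtS_3
    | 4, _ => levPtS_4
    | 5, _ => levPtS_5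
    | 6, _ => levPtS_6
    | 7, _ => levPtS_7
    | j + 8, h => absurd h (by omega)

theorem levCovS_0 : pieceOK 100 (dataS.pts 0) (dataS.levCov 0) 0 = true := by decide +kernel

theorem levCovS_1 : pieceOK 100 (dataS.pts 0) (dataS.levCov 0) 1 = true := by decide +kernel

theorem levCovS_2 : pieceOK 100 (dataS.pts 0) (dataS.levCov 0) 2 = true := by decide +kernel

theorem levCovS_3 : pieceOK 100 (dataS.pts 0) (dataS.levCov 0) 3 = true := by decide +kernel

theorem levCovS_4 : pieceOK 100 (dataS.pts 0) (dataS.levCov 0) 4 = true := by decide +kernel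

theorem levCovS_5 : pieceOK 100 (dataS.pts 0) (dataS.levCov 0) 5 = true := by decide +kernel

theorem levCovS_6 : pieceOK 100 (dataS.pts 0) (dataS.levCov 0) 6 = true := by decide +kernel

theorem levCovS_7 : pieceOK 100 (dataS.pts 0) (dataS.levCov 0) 7 = true := by decide +kernel

theorem levCovS_all : (dataS.pts 0).all (dataS.levCov 0) = true :=
  all_of_pieces (n := 100) (m := 8) (by decide +kernel) fun i hi =>
    match i, hi with
    | 0, _ => levCovS_0
    | 1, _ => levCovS_1
    | 2, _ => levCovS_2
    | 3, _ => levCovS_3
    | 4, _ => levCovS_4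
    | 5, _ => levCovS_5
    | 6, _ => levCovS_6
    | 7, _ => levCovS_7
    | j + 8, h => absurd h (by omega)

theorem levChkS_0 : dataS.levChk 0 = true :=
  Data.levChk_of (by decide +kernel) levPtS_all (by decide +kernel) levCovS_all (by decide +kernel)
    (by decide +kernel)

theorem levChkS_1 : dataS.levChk 1 = true := by decide +kernel

theorem levChkS_2 : dataS.levChk 2 = true := by decide +kernel

theorem levChkS_3 : dataS.levChk 3 = true := by decide +kernel

theorem levChkS_4 : dataS.levChk 4 = true := by decide +kernel

theorem levChkS_5 : dataS.levChk 5 = true := by decide +kernel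

theorem levChkS_6 : dataS.levChk 6 = true := by decide +kernel

theorem pickChkS_all : (List.range dataS.nlev).all (fun k => (dataS.pick k).all (dataS.pickChk k)) = true := by decide +kernel

end CfsgLib.Fi22USix
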