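import Cfsg.Agent.Lib.Fi22USix.DataS
import Cfsg.Agent.Lib.Leech.Sub.Split

/-! Kernel checks of the chain: Schreier generators. -/

set_option autoImplicit false
-- the pieces are checked one after another, which keeps the peak memory low
set_option Elab.async false
set_option maxRecDepth 100000

namespace CfsgLib.Fi22USix

open CfsgLib.Schur.MonoCover CfsgLib.Leech

theorem schChkS0_0 : pieceOK 25 (schS0) (dataS.schChk 0) 0 = true := by decide +kernel

theorem schChkS0_1 : pieceOK 25 (schS0) (dataS.schChk 0) 1 = true := by decide +kernel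

theorem schChkS0_2 : pieceOK 25 (schS0) (dataS.schChk 0) 2 = true := by decide +kernel

theorem schChkS0_3 : pieceOK 25 (schS0) (dataS.schChk 0) 3 = true := by decide +kernel

theorem schChkS0_4 : pieceOK 25 (schS0) (dataS.schChk 0) 4 = true := by decide +kernel

theorem schChkS0_5 : pieceOK 25 (schS0) (dataS.schChk 0) 5 = true := by decide +kernel

theorem schChkS0_6 : pieceOK 25 (schS0) (dataS.schChk 0) 6 = true := by decide +kernel

theorem schChkS0_7 : pieceOK 25 (schS0) (dataS.schChk 0) 7 = true := by decide +kernel

theorem schChkS0_8 : pieceOK 25 (schS0) (dataS.schChk 0) 8 = true := by decide +kernel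

theorem schChkS0_9 : pieceOK 25 (schS0) (dataS.schChk 0) 9 = true := by decide +kernel

theorem schChkS0_10 : pieceOK 25 (schS0) (dataS.schChk 0) 10 = true := by decide +kernel

theorem schChkS0_11 : pieceOK 25 (schS0) (dataS.schChk 0) 11 = true := by decide +kernel

theorem schChkS0_12 : pieceOK 25 (schS0) (dataS.schChk 0) 12 = true := by decide +kernel

theorem schChkS0_13 : pieceOK 25 (schS0) (dataS.schChk 0) 13 = true := by decide +kernel

theorem schChkS0_14 : pieceOK 25 (schS0) (dataS.schChk 0) 14 = true := by decide +kernel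

theorem schChkS0_15 : pieceOK 25 (schS0) (dataS.schChk 0) 15 = true := by decide +kernel

theorem schChkS0_16 : pieceOK 25 (schS0) (dataS.schChk 0) 16 = true := by decide +kernel

theorem schChkS0_17 : pieceOK 25 (schS0) (dataS.schChk 0) 17 = true := by decide +kernel

theorem schChkS0_18 : pieceOK 25 (schS0) (dataS.schChk 0) 18 = true := by decide +kernel

theorem schChkS0_19 : pieceOK 25 (schS0) (dataS.schChk 0) 19 = true := by decide +kernel

theorem schChkS0_20 : pieceOK 25 (schS0) (dataS.schChk 0) 20 = true := by decide +kernel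

theorem schChkS0_21 : pieceOK 25 (schS0) (dataS.schChk 0) 21 = true := by decide +kernel

theorem schChkS0_22 : pieceOK 25 (schS0) (dataS.schChk 0) 22 = true := by decide +kernel

theorem schChkS0_23 : pieceOK 25 (schS0) (dataS.schChk 0) 23 = true := by decide +kernel

theorem schChkS0_24 : pieceOK 25 (schS0) (dataS.schChk 0) 24 = true := by decide +kernel

theorem schChkS0_25 : pieceOK 25 (schS0) (dataS.schChk 0) 25 = true := by decide +kernel

theorem schChkS0_26 : pieceOK 25 (schS0) (dataS.schChk 0) 26 = true := by decide +kernel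

theorem schChkS0_27 : pieceOK 25 (schS0) (dataS.schChk 0) 27 = true := by decide +kernel

theorem schChkS0_28 : pieceOK 25 (schS0) (dataS.schChk 0) 28 = true := by decide +kernel

theorem schChkS0_29 : pieceOK 25 (schS0) (dataS.schChk 0) 29 = true := by decide +kernel

theorem schChkS0_30 : pieceOK 25 (schS0) (dataS.schChk 0) 30 = true := by decide +kernel

theorem schChkS0_31 : pieceOK 25 (schS0) (dataS.schChk 0) 31 = true := by decide +kernel

theorem schChkS0_32 : pieceOK 25 (schS0) (dataS.schChk 0) 32 = true := by decide +kernel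

theorem schChkS0_33 : pieceOK 25 (schS0) (dataS.schChk 0) 33 = true := by decide +kernel

theorem schChkS0_34 : pieceOK 25 (schS0) (dataS.schChk 0) 34 = true := by decide +kernel

theorem schChkS0_35 : pieceOK 25 (schS0) (dataS.schChk 0) 35 = true := by decide +kernel

theorem schChkS0_36 : pieceOK 25 (schS0) (dataS.schChk 0) 36 = true := by decide +kernel

theorem schChkS0_37 : pieceOK 25 (schS0) (dataS.schChk 0) 37 = true := by decide +kernel

theorem schChkS0_38 : pieceOK 25 (schS0) (dataS.schChk 0) 38 = true := by decide +kernel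

theorem schChkS0_39 : pieceOK 25 (schS0) (dataS.schChk 0) 39 = true := by decide +kernel

theorem schChkS0_40 : pieceOK 25 (schS0) (dataS.schChk 0) 40 = true := by decide +kernel

theorem schChkS0_41 : pieceOK 25 (schS0) (dataS.schChk 0) 41 = true := by decide +kernel

theorem schChkS0_42 : pieceOK 25 (schS0) (dataS.schChk 0) 42 = true := by decide +kernel

theorem schChkS0_43 : pieceOK 25 (schS0) (dataS.schChk 0) 43 = true := by decide +kernel

theorem schChkS0_44 : pieceOK 25 (schS0) (dataS.schChk 0) 44 = true := by decide +kernel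

theorem schChkS0_45 : pieceOK 25 (schS0) (dataS.schChk 0) 45 = true := by decide +kernel

theorem schChkS0_46 : pieceOK 25 (schS0) (dataS.schChk 0) 46 = true := by decide +kernel

theorem schChkS0_47 : pieceOK 25 (schS0) (dataS.schChk 0) 47 = true := by decide +kernel

theorem schChkS0_48 : pieceOK 25 (schS0) (dataS.schChk 0) 48 = true := by decide +kernel

theorem schChkS0_49 : pieceOK 25 (schS0) (dataS.schChk 0) 49 = true := by decide +kernel

theorem schChkS0_50 : pieceOK 25 (schS0) (dataS.schChk 0) 50 = true := by decide +kernel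

theorem schChkS0_51 : pieceOK 25 (schS0) (dataS.schChk 0) 51 = true := by decide +kernel

theorem schChkS0_52 : pieceOK 25 (schS0) (dataS.schChk 0) 52 = true := by decide +kernel

theorem schChkS0_53 : pieceOK 25 (schS0) (dataS.schChk 0) 53 = true := by decide +kernel

theorem schChkS0_54 : pieceOK 25 (schS0) (dataS.schChk 0) 54 = true := by decide +kernel

theorem schChkS0_55 : pieceOK 25 (schS0) (dataS.schChk 0) 55 = true := by decide +kernel

theorem schChkS0_all : (schS0).all (dataS.schChk 0) = true :=
  all_of_pieces (n := 25) (m := 56) (by decide +kernel) fun i hi =>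
    match i, hi with
    | 0, _ => schChkS0_0
    | 1, _ => schChkS0_1
    | 2, _ => schChkS0_2
    | 3, _ => schChkS0_3
    | 4, _ => schChkS0_4
    | 5, _ => schChkS0_5
    | 6, _ => schChkS0_6
    | 7, _ => schChkS0_7
    | 8, _ => schChkS0_8
    | 9, _ => schChkS0_9
    | 10, _ => schChkS0_10
    | 11, _ => schChkS0_11
    | 12, _ => schChkS0_12
    | 13, _ => schChkS0_13
    | 14, _ => schChkS0_14
    | 15, _ => schChkS0_15
    | 16, _ => schChkS0_16
    | 17, _ => schChkS0_17
    | 18, _ => schChkS0_18
    | 19, _ => schChkS0_19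
    | 20, _ => schChkS0_20
    | 21, _ => schChkS0_21
    | 22, _ => schChkS0_22
    | 23, _ => schChkS0_23
    | 24, _ => schChkS0_24
    | 25, _ => schChkS0_25
    | 26, _ => schChkS0_26
    | 27, _ => schChkS0_27
    | 28, _ => schChkS0_28
    | 29, _ => schChkS0_29
    | 30, _ => schChkS0_30
    | 31, _ => schChkS0_31
    | 32, _ => schChkS0_32
    | 33, _ => schChkS0_33
    | 34, _ => schChkS0_34
    | 35, _ => schChkS0_35
    | 36, _ => schChkS0_36
    | 37, _ => schChkS0_37
    | 38, _ => schChkS0_38
    | 39, _ => schChkS0_39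
    | 40, _ => schChkS0_40
    | 41, _ => schChkS0_41
    | 42, _ => schChkS0_42
    | 43, _ => schChkS0_43
    | 44, _ => schChkS0_44
    | 45, _ => schChkS0_45
    | 46, _ => schChkS0_46
    | 47, _ => schChkS0_47
    | 48, _ => schChkS0_48
    | 49, _ => schChkS0_49
    | 50, _ => schChkS0_50
    | 51, _ => schChkS0_51
    | 52, _ => schChkS0_52
    | 53, _ => schChkS0_53
    | 54, _ => schChkS0_54
    | 55, _ => schChkS0_55
    | j + 56, h => absurd h (by omega)

theorem schChkS1_0 : pieceOK 25 (schS1) (dataS.schChk 1) 0 = true := by decide +kernel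

theorem schChkS1_1 : pieceOK 25 (schS1) (dataS.schChk 1) 1 = true := by decide +kernel

theorem schChkS1_2 : pieceOK 25 (schS1) (dataS.schChk 1) 2 = true := by decide +kernel

theorem schChkS1_3 : pieceOK 25 (schS1) (dataS.schChk 1) 3 = true := by decide +kernel

theorem schChkS1_4 : pieceOK 25 (schS1) (dataS.schChk 1) 4 = true := by decide +kernel

theorem schChkS1_5 : pieceOK 25 (schS1) (dataS.schChk 1) 5 = true := by decide +kernel

theorem schChkS1_6 : pieceOK 25 (schS1) (dataS.schChk 1) 6 = true := by decide +kernel

theorem schChkS1_7 : pieceOK 25 (schS1) (dataS.schChk 1) 7 = true := by decide +kernel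

theorem schChkS1_8 : pieceOK 25 (schS1) (dataS.schChk 1) 8 = true := by decide +kernel

theorem schChkS1_9 : pieceOK 25 (schS1) (dataS.schChk 1) 9 = true := by decide +kernel

theorem schChkS1_10 : pieceOK 25 (schS1) (dataS.schChk 1) 10 = true := by decide +kernel

theorem schChkS1_11 : pieceOK 25 (schS1) (dataS.schChk 1) 11 = true := by decide +kernel

theorem schChkS1_12 : pieceOK 25 (schS1) (dataS.schChk 1) 12 = true := by decide +kernel

theorem schChkS1_13 : pieceOK 25 (schS1) (dataS.schChk 1) 13 = true := by decide +kernel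

theorem schChkS1_14 : pieceOK 25 (schS1) (dataS.schChk 1) 14 = true := by decide +kernel

theorem schChkS1_all : (schS1).all (dataS.schChk 1) = true :=
  all_of_pieces (n := 25) (m := 15) (by decide +kernel) fun i hi =>
    match i, hi with
    | 0, _ => schChkS1_0
    | 1, _ => schChkS1_1
    | 2, _ => schChkS1_2
    | 3, _ => schChkS1_3
    | 4, _ => schChkS1_4
    | 5, _ => schChkS1_5
    | 6, _ => schChkS1_6
    | 7, _ => schChkS1_7
    | 8, _ => schChkS1_8
    | 9, _ => schChkS1_9
    | 10, _ => schChkS1_10
    | 11, _ => schChkS1_11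
    | 12, _ => schChkS1_12
    | 13, _ => schChkS1_13
    | 14, _ => schChkS1_14
    | j + 15, h => absurd h (by omega)

theorem schChkS2_0 : pieceOK 25 (schS2) (dataS.schChk 2) 0 = true := by decide +kernel

theorem schChkS2_all : (schS2).all (dataS.schChk 2) = true :=
  all_of_pieces (n := 25) (m := 1) (by decide +kernel) fun i hi =>
    match i, hi with
    | 0, _ => schChkS2_0
    | j + 1, h => absurd h (by omega)

theorem schChkS3_0 : pieceOK 25 (schS3) (dataS.schChk 3) 0 = true := by decide +kernel

theorem schChkS3_1 : pieceOK 25 (schS3) (dataS.schChk 3) 1 = true := by decide +kernel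

theorem schChkS3_2 : pieceOK 25 (schS3) (dataS.schChk 3) 2 = true := by decide +kernel

theorem schChkS3_3 : pieceOK 25 (schS3) (dataS.schChk 3) 3 = true := by decide +kernel

theorem schChkS3_4 : pieceOK 25 (schS3) (dataS.schChk 3) 4 = true := by decide +kernel

theorem schChkS3_5 : pieceOK 25 (schS3) (dataS.schChk 3) 5 = true := by decide +kernel

theorem schChkS3_6 : pieceOK 25 (schS3) (dataS.schChk 3) 6 = true := by decide +kernel

theorem schChkS3_7 : pieceOK 25 (schS3) (dataS.schChk 3) 7 = true := by decide +kernel

theorem schChkS3_all : (schS3).all (dataS.schChk 3) = true :=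
  all_of_pieces (n := 25) (m := 8) (by decide +kernel) fun i hi =>
    match i, hi with
    | 0, _ => schChkS3_0
    | 1, _ => schChkS3_1
    | 2, _ => schChkS3_2
    | 3, _ => schChkS3_3
    | 4, _ => schChkS3_4
    | 5, _ => schChkS3_5
    | 6, _ => schChkS3_6
    | 7, _ => schChkS3_7
    | j + 8, h => absurd h (by omega)

theorem schChkS4_0 : pieceOK 25 (schS4) (dataS.schChk 4) 0 = true := by decide +kernel

theorem schChkS4_1 : pieceOK 25 (schS4) (dataS.schChk 4) 1 = true := by decide +kernel

theorem schChkS4_2 : pieceOK 25 (schS4) (dataS.schChk 4) 2 = true := by decide +kernel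

theorem schChkS4_3 : pieceOK 25 (schS4) (dataS.schChk 4) 3 = true := by decide +kernel

theorem schChkS4_4 : pieceOK 25 (schS4) (dataS.schChk 4) 4 = true := by decide +kernel

theorem schChkS4_5 : pieceOK 25 (schS4) (dataS.schChk 4) 5 = true := by decide +kernel

theorem schChkS4_6 : pieceOK 25 (schS4) (dataS.schChk 4) 6 = true := by decide +kernel

theorem schChkS4_7 : pieceOK 25 (schS4) (dataS.schChk 4) 7 = true := by decide +kernel

theorem schChkS4_8 : pieceOK 25 (schS4) (dataS.schChk 4) 8 = true := by decide +kernel

theorem schChkS4_9 : pieceOK 25 (schS4) (dataS.schChk 4) 9 = true := by decide +kernel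

theorem schChkS4_10 : pieceOK 25 (schS4) (dataS.schChk 4) 10 = true := by decide +kernel

theorem schChkS4_11 : pieceOK 25 (schS4) (dataS.schChk 4) 11 = true := by decide +kernel

theorem schChkS4_all : (schS4).all (dataS.schChk 4) = true :=
  all_of_pieces (n := 25) (m := 12) (by decide +kernel) fun i hi =>
    match i, hi with
    | 0, _ => schChkS4_0
    | 1, _ => schChkS4_1
    | 2, _ => schChkS4_2
    | 3, _ => schChkS4_3
    | 4, _ => schChkS4_4
    | 5, _ => schChkS4_5
    | 6, _ => schChkS4_6
    | 7, _ => schChkS4_7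
    | 8, _ => schChkS4_8
    | 9, _ => schChkS4_9
    | 10, _ => schChkS4_10
    | 11, _ => schChkS4_11
    | j + 12, h => absurd h (by omega)

theorem schChkS5_0 : pieceOK 25 (schS5) (dataS.schChk 5) 0 = true := by decide +kernel

theorem schChkS5_1 : pieceOK 25 (schS5) (dataS.schChk 5) 1 = true := by decide +kernel

theorem schChkS5_all : (schS5).all (dataS.schChk 5) = true :=
  all_of_pieces (n := 25) (m := 2) (by decide +kernel) fun i hi =>
    match i, hi with
    | 0, _ => schChkS5_0
    | 1, _ => schChkS5_1
    | j + 2, h => absurd h (by omega)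

theorem schChkS6_0 : pieceOK 25 (schS6) (dataS.schChk 6) 0 = true := by decide +kernel

theorem schChkS6_all : (schS6).all (dataS.schChk 6) = true :=
  all_of_pieces (n := 25) (m := 1) (by decide +kernel) fun i hi =>
    match i, hi with
    | 0, _ => schChkS6_0
    | j + 1, h => absurd h (by omega)

end CfsgLib.Fi22USix
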