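import Cfsg.Agent.Lib.Classical.USixTwoLift
import Cfsg.Agent.Lib.HePres.Sp4
import Cfsg.Agent.Lib.Schur.FamilyAction
import Cfsg.Agent.Lib.Fi22USix.Elems
import Cfsg.Agent.Lib.Leech.Sub.Split

/-!
The action of `SU₆(2)` on the 693 isotropic points, with eight transvections and their permutations.
-/

set_option autoImplicit false
set_option Elab.async false
set_option maxRecDepth 100000

namespace CfsgLib.Fi22USix

open Matrix CfsgLib.Classical CfsgLib.Leech
open CfsgLib.HePres (K4)

abbrev V6 : Type := Fin 6 → K4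

/-- the special unitary group -/
abbrev SU62 : Subgroup (Matrix.SpecialLinearGroup (Fin 6) K4) := Cfsg.SU 6 K4 2

/-- the field element of a code -/
def el (x : ℕ) : K4 := ⟨⟨x % 4, Nat.mod_lt _ (by norm_num)⟩⟩

/-- the code of a vector -/
def code (v : V6) : ℕ :=
  (v 0).code.val + 4 * (v 1).code.val + 16 * (v 2).code.val + 64 * (v 3).code.val +
    256 * (v 4).code.val + 1024 * (v 5).code.val

/-- the vector of a code -/
def vec (n : ℕ) : V6 := fun i => el (n / 4 ^ (i : ℕ))

theorem vec_code (v : V6) : vec (code v) = v := by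
  have key : ∀ a : K4, a.code.val < 4 := fun a => a.code.isLt
  have := key (v 0); have := key (v 1); have := key (v 2)
  have := key (v 3); have := key (v 4); have := key (v 5)
  funext i
  have hcode : ((vec (code v) i).code : ℕ) = (v i).code := by
    simp only [vec, el, code]
    fin_cases i <;> simp <;> omega
  cases hv : v i
  cases hw : vec (code v) i
  rw [hv, hw] at hcode
  exact congrArg K4.mk (Fin.ext hcode)

theorem code_lt (v : V6) : code v < 4096 := by
  have key : ∀ a : K4, a.code.val < 4 := fun a => a.code.isLt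
  have := key (v 0); have := key (v 1); have := key (v 2)
  have := key (v 3); have := key (v 4); have := key (v 5)
  unfold code; omega

/-- the vector of a point -/
def pt (i : ℕ) : V6 := vec ((vecTab.getD (i / 32) []).getD (i % 32) 0)

/-- the point of a vector, plus one -/
def lk (n : ℕ) : ℕ := (lookTab.getD (n / 32) []).getD (n % 32) 0

/-- the form on a vector -/
def nrm (v : V6) : K4 :=
  v 0 * (v 0 * v 0) + v 1 * (v 1 * v 1) + v 2 * (v 2 * v 2) + v 3 * (v 3 * v 3) +
    v 4 * (v 4 * v 4) + v 5 * (v 5 * v 5)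

theorem herm_self (v : V6) : Cfsg.hermForm 6 K4 2 v v = nrm v := by
  simp [Cfsg.hermForm, Fin.sum_univ_six, nrm, pow_two]

theorem units_cases : ∀ c : K4, c ≠ 0 → c = el 1 ∨ c = el 2 ∨ c = el 3 := by decide +kernel

theorem ne_zero_el : el 1 ≠ 0 ∧ el 2 ≠ 0 ∧ el 3 ≠ 0 := by decide +kernel

theorem ptChk : (List.range 693).all (fun i => decide (nrm (pt i) = 0) && decide (pt i ≠ 0) &&
    [1, 2, 3].all fun c => Nat.beq (lk (code (el c • pt i))) (i + 1)) = true := by decide +kernel

/-- one code in the classification -/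
def classChk (n : ℕ) : Bool :=
  decide (nrm (vec n) ≠ 0) || Nat.beq n 0 ||
    (Nat.blt 0 (lk n) && Nat.blt (lk n) 694 &&
      [1, 2, 3].any fun c => decide (el c • pt (lk n - 1) = vec n))

theorem classChk_0 : pieceOK 1024 (List.range 4096) classChk 0 = true := by decide +kernel
theorem classChk_1 : pieceOK 1024 (List.range 4096) classChk 1 = true := by decide +kernel
theorem classChk_2 : pieceOK 1024 (List.range 4096) classChk 2 = true := by decide +kernel
theorem classChk_3 : pieceOK 1024 (List.range 4096) classChk 3 = true := by decide +kernel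

theorem classChk_all : (List.range 4096).all classChk = true :=
  all_of_pieces (n := 1024) (m := 4) (by decide +kernel) fun i hi =>
    match i, hi with
    | 0, _ => classChk_0
    | 1, _ => classChk_1
    | 2, _ => classChk_2
    | 3, _ => classChk_3
    | j + 4, h => absurd h (by omega)

theorem pt_ne (i : Fin 693) : pt i ≠ 0 := by
  have h := List.all_eq_true.1 ptChk i (List.mem_range.2 i.2)
  simp only [Bool.and_eq_true, decide_eq_true_eq] at h
  exact h.1.2

theorem pt_iso (i : Fin 693) : Cfsg.hermForm 6 K4 2 (pt i) (pt i) = 0 := by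
  have h := List.all_eq_true.1 ptChk i (List.mem_range.2 i.2)
  simp only [Bool.and_eq_true, decide_eq_true_eq] at h
  rw [herm_self]; exact h.1.1

theorem lk_smul (i : Fin 693) {c : K4} (hc : c ≠ 0) : lk (code (c • pt i)) = i + 1 := by
  have h := List.all_eq_true.1 ptChk i (List.mem_range.2 i.2)
  simp only [Bool.and_eq_true, List.all_eq_true, Nat.beq_eq] at h
  rcases units_cases c hc with rfl | rfl | rfl <;> exact h.2 _ (by simp)

/-- the nonzero multiples of a vector -/
def pr (v : V6) : Finset V6 := {v, el 2 • v, el 3 • v}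

theorem mem_pr {v w : V6} : w ∈ pr v ↔ ∃ c : K4, c ≠ 0 ∧ w = c • v := by
  have h1 : el 1 = 1 := by decide
  constructor
  · intro h
    simp only [pr, Finset.mem_insert, Finset.mem_singleton] at h
    rcases h with rfl | rfl | rfl
    · exact ⟨1, one_ne_zero, (one_smul _ _).symm⟩
    · exact ⟨_, ne_zero_el.2.1, rfl⟩
    · exact ⟨_, ne_zero_el.2.2, rfl⟩
  · rintro ⟨c, hc, rfl⟩
    rcases units_cases c hc with rfl | rfl | rfl <;> simp [pr, h1]

theorem pr_smul {c : K4} (hc : c ≠ 0) (v : V6) : pr (c • v) = pr v := by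
  ext w
  simp only [mem_pr]
  constructor
  · rintro ⟨d, hd, rfl⟩; exact ⟨d * c, mul_ne_zero hd hc, smul_smul _ _ _⟩
  · rintro ⟨d, hd, rfl⟩
    exact ⟨d * c⁻¹, mul_ne_zero hd (inv_ne_zero hc), by
      rw [smul_smul, mul_assoc, inv_mul_cancel₀ hc, mul_one]⟩

theorem pr_pt_inj : Function.Injective fun i : Fin 693 => pr (pt i) := fun i j e => by
  have hm : pt i ∈ pr (pt j) := by
    rw [← show pr (pt i) = pr (pt j) from e]; exact mem_pr.2 ⟨1, one_ne_zero, (one_smul _ _).symm⟩
  obtain ⟨c, hc, h⟩ := mem_pr.1 hm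
  have h1 := lk_smul i (one_ne_zero (α := K4))
  rw [one_smul, h, lk_smul j hc] at h1
  exact Fin.ext (by omega)

theorem exists_pt {v : V6} (h0 : v ≠ 0) (hq : Cfsg.hermForm 6 K4 2 v v = 0) :
    ∃ j : Fin 693, pr v = pr (pt j) := by
  have h := List.all_eq_true.1 classChk_all (code v) (List.mem_range.2 (code_lt v))
  simp only [classChk, vec_code, Bool.or_eq_true, Bool.and_eq_true, decide_eq_true_eq, Nat.beq_eq,
    Nat.blt_eq, List.any_eq_true] at h
  rcases h with (h | h) | ⟨⟨hpos, hlt⟩, c, hc, he⟩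
  · exact absurd (by rw [← herm_self]; exact hq) h
  · exact absurd (by rw [← vec_code v, h]; decide) h0
  · refine ⟨⟨lk (code v) - 1, by omega⟩, ?_⟩
    have hc0 : el c ≠ 0 := by
      fin_cases hc
      exacts [ne_zero_el.1, ne_zero_el.2.1, ne_zero_el.2.2]
    conv_lhs => rw [← he]
    exact pr_smul hc0 _

/-- the image of a set of vectors -/
def move (g : SU62) (S : Finset V6) : Finset V6 :=
  S.image fun v => (g.1 : Matrix (Fin 6) (Fin 6) K4) *ᵥ v

theorem move_one (S : Finset V6) : move 1 S = S := by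
  simp [move]

theorem move_mul (g h : SU62) (S : Finset V6) : move (g * h) S = move g (move h S) := by
  rw [move, move, move, Finset.image_image]
  refine Finset.image_congr fun v _ => ?_
  simp [Function.comp, Matrix.mulVec_mulVec]

theorem move_pr (g : SU62) (v : V6) : move g (pr v) = pr ((g.1 : Matrix (Fin 6) (Fin 6) K4) *ᵥ v) := by
  simp [move, pr, Matrix.mulVec_smul]

/-- the centre of a transvection -/
def tvec (k : ℕ) : V6 := vec (tvTab.getD k 0)

/-- the product of two vectors -/
def hval (x u : V6) : K4 :=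
  x 0 * (u 0 * u 0) + x 1 * (u 1 * u 1) + x 2 * (u 2 * u 2) + x 3 * (u 3 * u 3) +
    x 4 * (u 4 * u 4) + x 5 * (u 5 * u 5)

theorem herm_eq (x u : V6) : Cfsg.hermForm 6 K4 2 x u = hval x u := by
  simp [Cfsg.hermForm, Fin.sum_univ_six, hval, pow_two]

theorem tvec_iso : ∀ k : Fin 8, hval (tvec k) (tvec k) = 0 := by decide +kernel

theorem exists_tv (k : Fin 8) :
    ∃ g : SU62, (g.1 : Matrix (Fin 6) (Fin 6) K4) = 1 + USixTwoLift.rk (tvec k) (tvec k) := by
  have hw : Cfsg.hermForm 6 K4 2 (tvec k) (tvec k) = 0 := by rw [herm_eq]; exact tvec_iso k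
  refine USixTwoLift.exists_su K4.card_eq _ (USixTwoLift.tv_pres K4.card_eq hw) ?_
  rw [show (4 : ℕ) = 2 * 2 from rfl, pow_mul, pow_two (1 + _), USixTwoLift.tv_sq K4.two_eq_zero hw,
    one_pow]

/-- the transvections -/
noncomputable def tv (k : Fin 8) : SU62 := (exists_tv k).choose

theorem tv_apply (k : Fin 8) (x : V6) :
    ((tv k).1 : Matrix (Fin 6) (Fin 6) K4) *ᵥ x = x + hval x (tvec k) • tvec k := by
  rw [show ((tv k).1 : Matrix (Fin 6) (Fin 6) K4) = _ from (exists_tv k).choose_spec, Matrix.add_mulVec,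
    Matrix.one_mulVec, USixTwoLift.rk_mulVec, herm_eq]

/-- the permutation of the points -/
def pK (k i : ℕ) : ℕ := (((permTab.getD k []).getD (i / 32) []).getD (i % 32) 0)

theorem tvChk : ∀ k : Fin 8, ∀ i : Fin 693, pK k i < 693 ∧
    lk (code (pt i + hval (pt i) (tvec k) • tvec k)) = pK k i + 1 := by decide +kernel

/-- The action on the points, with the images of the eight transvections. -/
theorem exists_suAction : ∃ φ : Cfsg.PSU 6 K4 2 →* Equiv.Perm (Fin 693),
    ∀ k : Fin 8, ∀ i : Fin 693,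
      ((φ (QuotientGroup.mk (tv k)) i : Fin 693) : ℕ) = pK k i := by
  classical
  have himg : ∀ (g : SU62) (i : Fin 693),
      ∃ j : Fin 693, move g (pr (pt i)) = pr (pt j) := fun g i => by
    rw [move_pr]
    refine exists_pt (fun h => pt_ne i ?_) ((g.2 (pt i) (pt i)).trans (pt_iso i))
    have e := congrArg (fun w => ((g⁻¹).1 : Matrix (Fin 6) (Fin 6) K4) *ᵥ w) h
    simp only [Matrix.mulVec_mulVec, Matrix.mulVec_zero] at e
    rw [← Matrix.SpecialLinearGroup.coe_mul, ← Subgroup.coe_mul, inv_mul_cancel] at e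
    simpa using e
  obtain ⟨φ, hφ⟩ := CfsgLib.Schur.exists_familyHom (fun (g : SU62) S => move g S)
    (fun i : Fin 693 => pr (pt i)) pr_pt_inj (fun i => move_one _) (fun g h i => move_mul _ _ _)
    (S := Set.univ) (Subgroup.closure_univ) (fun g _ i => himg g i)
  obtain ⟨K⟩ := CfsgLib.Classical.Herm.exists_conj_of_card (F := K4) (q := 2)
    (by rw [K4.card_eq]; norm_num)
  have hker : Subgroup.center SU62 ≤ φ.ker := fun z hz => Equiv.ext fun i => pr_pt_inj (by
    obtain ⟨c, hc⟩ := (CfsgLib.Classical.Herm.center_iff K (by norm_num) z).1 hz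
    refine (hφ z i).trans ?_
    show move z (pr (pt i)) = pr (pt i)
    rw [move_pr, hc, Matrix.smul_mulVec, Matrix.one_mulVec]
    refine pr_smul (fun h0 => ?_) _
    have hd := z.1.2
    rw [hc, h0, zero_smul, Matrix.det_zero] at hd
    exact zero_ne_one hd)
  refine ⟨QuotientGroup.lift _ φ hker, fun k i => ?_⟩
  show ((φ (tv k) i : Fin 693) : ℕ) = _
  obtain ⟨j, hj⟩ := himg (tv k) i
  obtain rfl : φ (tv k) i = j := pr_pt_inj ((hφ (tv k) i).trans hj)
  rw [move_pr, tv_apply] at hj
  have hm : pt i + hval (pt i) (tvec k) • tvec k ∈ pr (pt (φ (tv k) i)) := by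
    rw [← hj]; exact mem_pr.2 ⟨1, one_ne_zero, (one_smul _ _).symm⟩
  obtain ⟨c, hc, e⟩ := mem_pr.1 hm
  have h := (tvChk k i).2
  rw [e, lk_smul _ hc] at h
  omega

end CfsgLib.Fi22USix
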