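import Cfsg.Agent.Lib.Fi22Pres.Main
import Cfsg.Agent.Lib.Schur.MonoLift
import Cfsg.Agent.Lib.Classical.UnitarySimple
import Cfsg.Agent.Lib.Fi22USix.Model
import Cfsg.Agent.Lib.Fi22USix.ChkS
import Cfsg.Agent.Lib.Fi22USix.ChkSchS
import Cfsg.Prelude.Def_SporadicB

/-!
The subgroup of index 3510 of the presented Fischer group Fi22 is a non-split double cover of `PSU₆(2)`.

It acts on its suborbit of length 693 as `PSU₆(2)` does on isotropic points. A balanced word in the
generators lies in the kernel and moves a coset, so the centre has no complement.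
-/

set_option autoImplicit false
set_option Elab.async false
set_option maxRecDepth 100000

namespace CfsgLib.Fi22USix

open CfsgLib.CosetEnum CfsgLib.Schur.MonoCover CfsgLib.Leech CfsgLib.Fi22Pres
open CfsgLib.HePres (K4)

theorem validS : dataS.Valid where
  hm := by decide
  hc := by decide
  htab := tabChkS_all
  hinv := invChkS_all
  hdef := defChkS_all
  hlev := List.all_eq_true.2 fun k hk =>
    match k, List.mem_range.1 hk with
    | 0, _ => levChkS_0
    | 1, _ => levChkS_1
    | 2, _ => levChkS_2
    | 3, _ => levChkS_3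
    | 4, _ => levChkS_4
    | 5, _ => levChkS_5
    | 6, _ => levChkS_6
    | j + 7, h => absurd h (Nat.not_lt.2 (Nat.le_add_left 7 j))
  hlast := by decide
  hsch := fun k hk =>
    match k, hk with
    | 0, _ => schChkS0_all
    | 1, _ => schChkS1_all
    | 2, _ => schChkS2_all
    | 3, _ => schChkS3_all
    | 4, _ => schChkS4_all
    | 5, _ => schChkS5_all
    | 6, _ => schChkS6_all
    | j + 7, h => absurd h (Nat.not_lt.2 (Nat.le_add_left 7 j))
  hpick := fun k hk => List.all_eq_true.1 pickChkS_all k (List.mem_range.2 hk)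

/-- the coset of a point -/
def orb (i : ℕ) : ℕ := (orbTab.getD (i / 32) []).getD (i % 32) 0

/-- the generators of the subgroup as words -/
def gword : List (List ℕ) := [[2], [3], [4], [5], [6], [7], [8], powWord [0, 1, 2, 3, 4, 7] 5]

/-- the permutation of a word in the eight generators -/
def pW (w : List ℕ) (i : ℕ) : ℕ := w.foldr pK i

theorem subs_eq : certA.subs = [0] :: gword := rfl

theorem gword_mem : ∀ k : Fin 8, gword.getD k [] ∈ certA.subs ∧ ∀ g ∈ gword.getD k [], g < certA.K := by
  decide +kernel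

theorem sucChk : (List.range 693).all (fun i => Nat.blt (orb i) 3510) = true ∧
    ((List.range 693).map orb).Nodup := by decide +kernel

theorem aChk : (List.range 693).all
    (fun i => Nat.beq (certA.run (orb i) (certA.revInv [0])) (orb i)) = true := by decide +kernel

theorem gChk : (List.range 8).all (fun k => (List.range 693).all fun i =>
    Nat.beq (certA.run (orb i) (certA.revInv (gword.getD k []))) (orb (pK k i))) = true := by
  decide +kernel

theorem balShape : (balWord.all fun k => decide (k < 8)) = true ∧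
    List.Perm balWord
      ((List.range 8).flatMap (fun k => List.replicate (balWord.count k / 2) k) ++
        (List.range 8).flatMap fun k => List.replicate (balWord.count k / 2) k) := by
  decide +kernel

theorem balFix : (List.range 693).all (fun i => Nat.beq (pW balWord i) i) = true := by decide +kernel

theorem balMove : (List.range 3510).any (fun x =>
    !Nat.beq (certA.run x (certA.revInv (balWord.flatMap fun k => gword.getD k []))) x) = true := by
  decide +kernel

theorem imgChk0 : (List.range 693).all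
    (fun i => Nat.beq (dataS.img 0 i) (pW [0, 1, 2] i)) = true := by decide +kernel

theorem imgChk1 : (List.range 693).all
    (fun i => Nat.beq (dataS.img 1 i) (pW [3, 4, 5, 6, 7] i)) = true := by decide +kernel

theorem rootGens : ∀ g ∈ dataS.gens 0, g = 0 ∨ g = 1 := by decide +kernel

theorem orbitProdS : Data.orbitProd dataS 0 dataS.nlev = 9196830720 := by decide +kernel

theorem card_psu : Nat.card (Cfsg.PSU 6 K4 2) = 9196830720 := by
  obtain ⟨K⟩ := CfsgLib.Classical.Herm.exists_conj_of_card (F := K4) (q := 2)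
    (by rw [K4.card_eq]; norm_num)
  have hs := CfsgLib.Classical.Herm.card_SU K (n := 6) (by norm_num)
  rw [CfsgLib.Classical.Herm.card_GU K] at hs
  have hc := CfsgLib.Classical.Herm.card_center K (n := 6) (by norm_num)
  have hq := Subgroup.card_eq_card_quotient_mul_card_subgroup (Subgroup.center (Cfsg.SU 6 K4 2))
  simp [Finset.prod_range_succ, Nat.even_iff] at hs
  rw [hc] at hq
  norm_num at hq hs ⊢
  show Nat.card (Cfsg.SU 6 K4 2 ⧸ Subgroup.center (Cfsg.SU 6 K4 2)) = _
  omega

/-- the images of the eight transvections -/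
noncomputable def yl (k : ℕ) : Cfsg.PSU 6 K4 2 :=
  if h : k < 8 then QuotientGroup.mk (tv ⟨k, h⟩) else 1

/-- The eight transvections generate, and the action is faithful. -/
theorem exists_model : ∃ φ : Cfsg.PSU 6 K4 2 →* Equiv.Perm (Fin 693),
    Function.Injective φ ∧ Subgroup.closure {x | ∃ k < 8, yl k = x} = ⊤ ∧
      ∀ k < 8, ∀ i : Fin 693, ((φ (yl k) i : Fin 693) : ℕ) = pK k i := by
  obtain ⟨φ, hφ⟩ := exists_suAction
  let y : ℕ → Cfsg.PSU 6 K4 2 := yl
  have hy : ∀ k < 8, ∀ i : Fin 693, ((φ (y k) i : Fin 693) : ℕ) = pK k i := fun k hk i => by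
    simp only [y, yl, dif_pos hk]; exact hφ ⟨k, hk⟩ i
  have hfold : ∀ w : List ℕ, (∀ k ∈ w, k < 8) → ∀ i : Fin 693,
      ((φ (prodW y w) i : Fin 693) : ℕ) = pW w i := by
    intro w
    induction w with
    | nil => intro _ i; simp [pW]
    | cons k w ih =>
      intro hw i
      rw [List.forall_mem_cons] at hw
      rw [prodW_cons, map_mul, Equiv.Perm.mul_apply, hy k hw.1, ih hw.2, pW, pW, List.foldr_cons]
  let X : ℕ → Cfsg.PSU 6 K4 2 := fun g =>
    if g = 0 then prodW y [0, 1, 2] else prodW y [3, 4, 5, 6, 7]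
  have hX : ∀ g ∈ dataS.gens 0, ∀ i : Fin 693, ((φ (X g) i : Fin 693) : ℕ) = dataS.img g i := by
    intro g hg i
    rcases rootGens g hg with rfl | rfl
    · have := List.all_eq_true.1 imgChk0 i (List.mem_range.2 i.2)
      rw [Nat.beq_eq] at this
      exact (hfold _ (by decide) i).trans this.symm
    · have := List.all_eq_true.1 imgChk1 i (List.mem_range.2 i.2)
      rw [Nat.beq_eq] at this
      exact (hfold _ (by decide) i).trans this.symm
  obtain ⟨hgen, hinj⟩ :=
    Data.chain_generates validS φ X hX (by rw [card_psu, orbitProdS])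
  refine ⟨φ, hinj, ?_, hy⟩
  rw [eq_top_iff, ← hgen, Subgroup.closure_le]
  rintro _ ⟨g, -, rfl⟩
  have hw : ∀ w : List ℕ, (∀ k ∈ w, k < 8) →
      prodW y w ∈ Subgroup.closure {x | ∃ k < 8, y k = x} := fun w hw =>
    Subgroup.list_prod_mem _ fun x hx => by
      obtain ⟨k, hk, rfl⟩ := List.mem_map.mp hx
      exact Subgroup.subset_closure ⟨k, hw k hk, rfl⟩
  show (if g = 0 then _ else _) ∈ Subgroup.closure _
  split_ifs <;> exact hw _ (by decide)

theorem noncomm_chk : (List.range 693).any
    (fun i => !Nat.beq (pK 0 (pK 1 i)) (pK 1 (pK 0 i))) = true := by decide +kernel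

theorem psu_simple : IsSimpleGroup (Cfsg.PSU 6 K4 2) := by
  haveI : CharP K4 2 := CharTwo.of_one_ne_zero_of_two_eq_zero one_ne_zero K4.two_eq_zero
  obtain ⟨K⟩ := CfsgLib.Classical.Herm.exists_conj_of_card (F := K4) (q := 2)
    (by rw [K4.card_eq]; norm_num)
  exact CfsgLib.Classical.Herm.isSimpleGroup K 2 (by norm_num) (by norm_num)

theorem psu_center : Subgroup.center (Cfsg.PSU 6 K4 2) = ⊥ := by
  haveI : IsSimpleGroup (Cfsg.PSU 6 K4 2) := psu_simple
  refine (Subgroup.Normal.eq_bot_or_eq_top (inferInstance : (Subgroup.center _).Normal)).resolve_right fun h => ?_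
  obtain ⟨φ, -, -, hy⟩ := exists_model
  let y := yl
  have hc : ∀ i : Fin 693, φ (y 0) (φ (y 1) i) = φ (y 1) (φ (y 0) i) := fun i => by
    rw [← Equiv.Perm.mul_apply, ← Equiv.Perm.mul_apply, ← map_mul, ← map_mul,
      Subgroup.mem_center_iff.1 (h ▸ Subgroup.mem_top (y 1)) (y 0)]
  obtain ⟨i, hi, hne⟩ := List.any_eq_true.1 noncomm_chk
  have e := congrArg Fin.val (hc ⟨i, List.mem_range.1 hi⟩)
  simp only [y, hy 0 (by norm_num), hy 1 (by norm_num)] at e
  simp [Nat.beq_eq, e] at hne

theorem sgen_mem {k : ℕ} (hk : k < 8) : prodW gen (gword.getD k []) ∈ subA :=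
  Subgroup.subset_closure ⟨_, (gword_mem ⟨k, hk⟩).1, rfl⟩

/-- the lifts of the eight transvections -/
noncomputable def tA (k : ℕ) : subA := if h : k < 8 then ⟨prodW gen (gword.getD k []), sgen_mem h⟩ else 1

theorem tA_coe {k : ℕ} (hk : k < 8) : (tA k : Cfsg.Spor.Fi22) = prodW gen (gword.getD k []) := by
  rw [tA, dif_pos hk]

theorem flatA : ∀ w : List ℕ, (∀ k ∈ w, k < 8) →
    ((prodW tA w : subA) : Cfsg.Spor.Fi22) = prodW gen (w.flatMap fun k => gword.getD k []) := by
  intro w
  induction w with
  | nil => intro _; simp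
  | cons k w ih =>
    intro hw
    rw [List.forall_mem_cons] at hw
    rw [prodW_cons, Subgroup.coe_mul, ih hw.2, List.flatMap_cons, prodW_append, tA_coe hw.1]

/-- The projection of the double cover. -/
theorem exists_proj : ∃ π : subA →* Cfsg.PSU 6 K4 2, Function.Surjective π ∧
    Subgroup.center subA = π.ker ∧ Nat.card π.ker = 2 ∧ ∀ k < 8, π (tA k) = yl k := by
  classical
  obtain ⟨φ, hφ, hyt, hy⟩ := exists_model
  let y := yl
  -- the generators
  let s : ℕ → Cfsg.Spor.Fi22 := fun k => prodW gen (gword.getD k [])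
  have hsmem : ∀ k < 8, s k ∈ subA := fun k hk =>
    Subgroup.subset_closure ⟨_, (gword_mem ⟨k, hk⟩).1, rfl⟩
  have ha : gen 0 ∈ subA := Subgroup.subset_closure ⟨[0], by simp [subs_eq], by simp⟩
  let S : Set subA := {x | (x : Cfsg.Spor.Fi22) = gen 0 ∨ ∃ k < 8, (x : Cfsg.Spor.Fi22) = s k}
  have hS : Subgroup.closure S = ⊤ := by
    refine (Subgroup.eq_top_iff' _).2 fun x => ?_
    have hle : subA ≤ (Subgroup.closure S).map subA.subtype := by
      refine (Subgroup.closure_le _).2 ?_
      rintro _ ⟨w, hw, rfl⟩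
      simp only [subs_eq, List.mem_cons] at hw
      rcases hw with rfl | hw
      · exact ⟨⟨gen 0, ha⟩, Subgroup.subset_closure (Or.inl rfl), by simp⟩
      · obtain ⟨k, hk, rfl⟩ := List.mem_iff_getElem.1 hw
        refine ⟨⟨s k, hsmem k hk⟩, Subgroup.subset_closure (Or.inr ⟨k, hk, rfl⟩), ?_⟩
        simp [s, List.getD_eq_getElem?_getD, List.getElem?_eq_getElem hk]
    obtain ⟨x', hx', e⟩ := Subgroup.mem_map.1 (hle x.2)
    rwa [show x = x' from Subtype.ext e.symm]
  -- the action on the suborbit
  have horb : ∀ i : Fin 693, orb i < certA.N := fun i => by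
    have := List.all_eq_true.1 sucChk.1 i (List.mem_range.2 i.2)
    rw [Nat.blt_eq] at this; exact this
  let f : Fin 693 → Fin certA.N := fun i => ⟨orb i, horb i⟩
  have hf : Function.Injective f := fun i j e => Fin.ext
    (List.inj_on_of_nodup_map sucChk.2 (List.mem_range.2 i.2) (List.mem_range.2 j.2) (congrArg Fin.val e))
  have hs_act : ∀ k < 8, ∀ i : Fin 693, pK k i < 693 ∧ (rho (s k) (f i) : ℕ) = orb (pK k i) :=
    fun k hk i => by
      refine ⟨(tvChk ⟨k, hk⟩ i).1, ?_⟩
      have h := List.all_eq_true.1 (List.all_eq_true.1 gChk k (List.mem_range.2 hk)) i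
        (List.mem_range.2 i.2)
      rw [Nat.beq_eq] at h
      exact (setupA.rho_prodW (gword_mem ⟨k, hk⟩).2 _).trans h
  have ha_act : ∀ i : Fin 693, rho (gen 0) (f i) = f i := fun i => Fin.ext (by
    have h := List.all_eq_true.1 aChk i (List.mem_range.2 i.2)
    rw [Nat.beq_eq] at h
    have e := setupA.rho_prodW (w := [0]) (by decide) (f i)
    rw [prodW_cons, prodW_nil, mul_one] at e
    exact e.trans h)
  obtain ⟨σ, hσ⟩ := CfsgLib.Schur.exists_familyHom
    (fun (g : subA) x => rho (g : Cfsg.Spor.Fi22) x) f hf (fun i => by simp)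
    (fun g h i => by simp [Equiv.Perm.mul_apply]) hS
    (by
      rintro g (hg | ⟨k, hk, hg⟩) i
      · exact ⟨i, by rw [hg]; exact ha_act i⟩
      · exact ⟨⟨pK k i, (hs_act k hk i).1⟩, by rw [hg]; exact Fin.ext (hs_act k hk i).2⟩)
  let t : ℕ → subA := fun k => if h : k < 8 then ⟨s k, hsmem k h⟩ else 1
  have ht : ∀ k < 8, σ (t k) = φ (y k) := fun k hk => Equiv.ext fun i => hf (by
    rw [hσ]
    refine Fin.ext ?_
    simp only [t, dif_pos hk]
    rw [(hs_act k hk i).2]
    show _ = orb (φ (y k) i : ℕ)
    rw [hy k hk i])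
  have hσa : σ ⟨gen 0, ha⟩ = 1 := Equiv.ext fun i => hf (by rw [hσ]; exact ha_act i)
  have hrange : σ.range = φ.range := by
    refine le_antisymm ?_ ?_
    · rw [MonoidHom.range_eq_map, ← hS, MonoidHom.map_closure, Subgroup.closure_le]
      rintro _ ⟨g, hg | ⟨k, hk, hg⟩, rfl⟩
      · rw [show g = ⟨gen 0, ha⟩ from Subtype.ext hg, hσa]; exact one_mem _
      · refine ⟨y k, ?_⟩
        rw [← ht k hk]; congr 1; simp only [t, dif_pos hk]; exact Subtype.ext hg.symm
    · rw [MonoidHom.range_eq_map, ← hyt, MonoidHom.map_closure, Subgroup.closure_le]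
      rintro _ ⟨_, ⟨k, hk, rfl⟩, rfl⟩
      exact ⟨t k, ht k hk⟩
  let e₁ : Cfsg.PSU 6 K4 2 ≃* φ.range := MonoidHom.ofInjective hφ
  let π : subA →* Cfsg.PSU 6 K4 2 :=
    (e₁.symm.toMonoidHom.comp (MulEquiv.subgroupCongr hrange).toMonoidHom).comp σ.rangeRestrict
  have hπs : Function.Surjective π :=
    (e₁.symm.surjective.comp (MulEquiv.subgroupCongr hrange).surjective).comp σ.rangeRestrict_surjective
  have hπk : π.ker = σ.ker := by
    ext x
    simp [π, MonoidHom.mem_ker, Subtype.ext_iff]
  have hcA : Nat.card subA = 18393661440 := by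
    have h := subA.card_mul_index
    rw [setupA.index_eq, card_faithful.1, show certA.N = 3510 from rfl] at h
    omega
  have hk2 : Nat.card π.ker = 2 := by
    have h := Subgroup.card_eq_card_quotient_mul_card_subgroup π.ker
    rw [Nat.card_congr (QuotientGroup.quotientKerEquivOfSurjective π hπs).toEquiv, card_psu, hcA] at h
    omega
  have hcen : Subgroup.center subA = π.ker := by
    refine le_antisymm (fun x hx => ?_) fun x hx => ?_
    · rw [MonoidHom.mem_ker, ← Subgroup.mem_bot, ← psu_center]
      exact Subgroup.mem_center_iff.2 fun p => by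
        obtain ⟨q, rfl⟩ := hπs p
        rw [← map_mul, ← map_mul, Subgroup.mem_center_iff.1 hx q]
    · obtain ⟨a, b, hab, huniv⟩ := Nat.card_eq_two_iff.1 hk2
      rw [Subgroup.mem_center_iff]
      intro g
      by_cases hx1 : x = 1
      · simp [hx1]
      have hg : g * x * g⁻¹ ∈ π.ker := (inferInstance : π.ker.Normal).conj_mem x hx g
      have key : ∀ u : π.ker, (u : subA) ≠ 1 → (u : subA) = x := by
        intro u hu
        have h2 : ∀ u : π.ker, u = a ∨ u = b := fun u => by
          have := (Set.eq_univ_iff_forall.1 huniv) u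
          simpa using this
        rcases h2 u with e | e <;> rcases h2 ⟨x, hx⟩ with e' | e' <;> rcases h2 1 with e'' | e'' <;>
          first
            | exact congrArg Subtype.val (e.trans e'.symm)
            | exact absurd (congrArg Subtype.val (e.trans e''.symm)) hu
            | exact absurd (congrArg Subtype.val (e'.trans e''.symm)) hx1
      have e : g * x * g⁻¹ = x := key ⟨_, hg⟩ fun h => hx1 (by simpa using h)
      exact mul_inv_eq_iff_eq_mul.1 e
  refine ⟨π, hπs, hcen, hk2, fun k hk => hφ ?_⟩
  have hφπ : ∀ x, φ (π x) = σ x := fun x => MonoidHom.apply_ofInjective_symm hφ _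
  have e : tA k = t k := by
    simp only [tA, t, s, dif_pos hk]
  rw [hφπ, e, ht k hk]

/-- The double cover. -/
theorem subA_cover : Cfsg.IsNonsplitDoubleCover subA (Cfsg.PSU 6 K4 2) := by
  classical
  obtain ⟨π, hπs, hcen, hk2, hπt⟩ := exists_proj
  obtain ⟨φ, hφ, -, hy⟩ := exists_model
  refine ⟨hcen ▸ hk2, ⟨?_⟩, fun L hL => ?_⟩
  · exact (QuotientGroup.quotientMulEquivOfEq hcen).trans
      (QuotientGroup.quotientKerEquivOfSurjective π hπs)
  · -- a balanced word is the central involution
    have hbal8 : ∀ k ∈ balWord, k < 8 := fun k hk => by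
      have := List.all_eq_true.1 balShape.1 k hk; simpa using this
    set z := prodW tA balWord with hz
    have hfold : ∀ w : List ℕ, (∀ k ∈ w, k < 8) → ∀ i : Fin 693,
        ((φ (π (prodW tA w)) i : Fin 693) : ℕ) = pW w i := by
      intro w
      induction w with
      | nil => intro _ i; simp [pW]
      | cons k w ih =>
        intro hw i
        rw [List.forall_mem_cons] at hw
        rw [prodW_cons, map_mul, map_mul, Equiv.Perm.mul_apply, hπt k hw.1, hy k hw.1, ih hw.2, pW,
          pW, List.foldr_cons]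
    have hzc : z ∈ Subgroup.center subA := by
      rw [hcen, MonoidHom.mem_ker]
      refine hφ (Equiv.ext fun i => Fin.ext ?_)
      rw [map_one]
      have h := List.all_eq_true.1 balFix i (List.mem_range.2 i.2)
      rw [Nat.beq_eq] at h
      exact (hfold _ hbal8 i).trans h
    have hflat := flatA
    have hlt : ∀ g ∈ balWord.flatMap (fun k => gword.getD k []), g < certA.K := fun g hg => by
      obtain ⟨k, hk, hg⟩ := List.mem_flatMap.1 hg
      exact (gword_mem ⟨k, hbal8 k hk⟩).2 g hg
    have hz1 : z ≠ 1 := by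
      intro h1
      obtain ⟨x, hx, hne⟩ := List.any_eq_true.1 balMove
      have e : (z : Cfsg.Spor.Fi22) = 1 := by rw [h1]; rfl
      rw [hz, hflat _ hbal8] at e
      have hrun := setupA.rho_prodW hlt (⟨x, List.mem_range.1 hx⟩ : Fin certA.N)
      rw [e, map_one] at hrun
      simp only [Bool.not_eq_true', Nat.beq_eq] at hne
      rw [← hrun] at hne
      simp at hne
    have hidx : L.index = 2 := by
      rw [hL.index_eq_card, hcen, hk2]
    let ψ : subA →* Multiplicative (ZMod 2) := MonoidHom.mk'
      (fun g => if g ∈ L then 1 else Multiplicative.ofAdd 1) fun a b => by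
        have h := Subgroup.mul_mem_iff_of_index_two (a := a) (b := b) hidx
        by_cases ha : a ∈ L <;> by_cases hb : b ∈ L <;> simp [ha, hb, h] <;> decide
    have hψz : ψ z = 1 := by
      have hsq : ∀ m : Multiplicative (ZMod 2), m * m = 1 := by decide
      rw [hz, map_prodW, prodW, (balShape.2.map _).prod_eq, List.map_append, List.prod_append]
      exact hsq _
    have hzL : z ∈ L := by
      by_contra hn
      simp [ψ, hn] at hψz
    exact hz1 (Subgroup.disjoint_def.1 hL.disjoint hzc hzL)

end CfsgLib.Fi22USix
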