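import Cfsg.Agent.Lib.Fi22Pres.Out
import Cfsg.Agent.Lib.Fi22USix.Main

/-!
The 3510 transpositions of the presented group Fi22.
-/

set_option autoImplicit false
set_option Elab.async false

namespace CfsgLib.Fi22USix

open CfsgLib.CosetEnum CfsgLib.Fi22Pres Cfsg.Spor
open CfsgLib.HePres (K4)

theorem cubed_word :
    (([0] ++ certA.conjWord 0 1).all fun g => Nat.blt g certA.K) = true ∧
      allUp (wordFix certA (powWord ([0] ++ certA.conjWord 0 1) 3)) 12 0 = true := by decide +kernel

theorem comm_central : ∀ x ∈ subA, x * (gen 0) = (gen 0) * x := comm_first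

/-- the class of the first generator -/
noncomputable def transClass : Set Fi22 := conjugatesOf (gen 0)

theorem mem_transClass {d : Fi22} :
    d ∈ transClass ↔ ∃ x : Fin certA.N, conjAt certA gen (gen 0) x = d := by
  change IsConj (gen 0) d ↔ _
  rw [isConj_iff]
  constructor
  · rintro ⟨c, rfl⟩
    exact ⟨_, (setupA.conj_eq_conjAt comm_central c).symm⟩
  · rintro ⟨x, rfl⟩
    exact ⟨(coreRep certA gen x)⁻¹, by simp [conjAt, mul_assoc]⟩

theorem transClass_card : Nat.card transClass = 3510 := by
  have e : transClass = Set.range fun x : Fin certA.N => conjAt certA gen (gen 0) x :=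
    Set.ext fun d => mem_transClass
  rw [e, Nat.card_range_of_injective fun x y h => Fi22Pres.graph.injective h, Nat.card_fin]
  rfl

theorem central_pair (z : Fin certA.N) :
    ((gen 0) * conjAt certA gen (gen 0) z) ^ 2 = 1 ∨ ((gen 0) * conjAt certA gen (gen 0) z) ^ 3 = 1 := by
  have hfix : ∀ h ∈ subA, h * (gen 0) * h⁻¹ = (gen 0) := fun h hh => by
    rw [comm_central h hh, mul_inv_cancel_right]
  by_cases hm : commMask.testBit z = true
  · left
    have hc := (Fi22Pres.graph.mask z).mp hm
    have hsq : conjAt certA gen (gen 0) z * conjAt certA gen (gen 0) z = 1 := by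
      rw [conjAt, show ∀ c : Fi22, c⁻¹ * (gen 0) * c * (c⁻¹ * (gen 0) * c) = c⁻¹ * ((gen 0) * (gen 0)) * c
        from fun c => by group, first_facts.1, mul_one, inv_mul_cancel]
    rw [pow_two, hc.symm.mul_mul_mul_comm, first_facts.1, hsq, one_mul]
  · right
    have hm2 : subMask1.testBit z = true := by
      have h := Nat.eq_of_beq_eq_true (suborbits.cover z z.2)
      rw [Bool.not_eq_true, commMask, Nat.testBit_or, Bool.or_eq_false_iff] at hm
      have hz : (z : ℕ) ≠ 0 := fun e => by rw [e] at hm; simp at hm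
      rw [show [subMask0, subMask1].length + 1 = 3 from rfl, show List.range 3 = [0, 1, 2] from rfl] at h
      simp only [List.countP_cons, List.countP_nil, List.getD_cons_zero, List.getD_cons_succ] at h
      simp [hm.2, hz, Nat.testBit_one_eq_true_iff_self_eq_zero] at h
      exact h
    obtain ⟨h, hh, e⟩ := (setupA.orbit_mem_iff subMask1_orbit z).mpr hm2
    have e' : (gen 0) * conjAt certA gen (gen 0) z =
        h * ((gen 0) * conjAt certA gen (gen 0) 1) * h⁻¹ := by
      rw [← e, ← setupA.conjAt_smul comm_central h ⟨1, subMask1_orbit.mem.1⟩]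
      conv_lhs => arg 1; rw [← hfix h hh]
      group
    rw [e', conj_pow, mul_inv_eq_one, mul_eq_left, conj_eq (by norm_num)]
    have hw := setupA.pow_eq_one card_faithful.2 (u := [0] ++ certA.conjWord 0 1) (n := 3) (k := 12)
      cubed_word.1 cubed_word.2 hN
    rw [prodW_append, prodW_cons, prodW_nil, mul_one] at hw
    exact hw

theorem transClass_three : Cfsg.IsThreeTranspositionClass transClass := by
  have hcent : ∀ d ∈ transClass, ∃ c : Fi22, c * (gen 0) * c⁻¹ = d := fun d hd =>
    isConj_iff.mp hd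
  refine ⟨⟨fun d hd => ?_, fun d hd e he => ?_⟩, ⟨(gen 0), mem_conjugatesOf_self, rfl⟩, ?_⟩
  · obtain ⟨c, rfl⟩ := hcent d hd
    rw [show c * (gen 0) * c⁻¹ = MulAut.conj c (gen 0) from rfl, MulEquiv.orderOf_eq]
    haveI : Fact (Nat.Prime 2) := ⟨Nat.prime_two⟩
    exact orderOf_eq_prime (by rw [pow_two]; exact first_facts.1) first_facts.2
  · obtain ⟨c, rfl⟩ := hcent d hd
    obtain ⟨x, rfl⟩ := mem_transClass.mp he
    have h := central_pair (rho c⁻¹ x)
    rw [← setupA.conjAt_smul comm_central, inv_inv] at h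
    have e : c * (gen 0) * c⁻¹ * conjAt certA gen (gen 0) x =
        c * ((gen 0) * (c⁻¹ * conjAt certA gen (gen 0) x * c)) * c⁻¹ := by group
    rw [e, conj_pow, conj_pow]
    rcases h with h | h
    · left; rw [h, mul_one, mul_inv_cancel]
    · right; rw [h, mul_one, mul_inv_cancel]
  · haveI : IsSimpleGroup Fi22 := isFi22.1
    have e : Subgroup.closure transClass = Subgroup.normalClosure {(gen 0)} := by
      rw [Subgroup.normalClosure, Group.conjugatesOfSet]
      simp [transClass]
    rw [e]
    refine (Subgroup.Normal.eq_bot_or_eq_top (H := Subgroup.normalClosure {(gen 0)})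
      inferInstance).resolve_left fun h => first_facts.2 ?_
    have := Subgroup.subset_normalClosure (Set.mem_singleton (gen 0))
    rw [h] at this
    exact Subgroup.mem_bot.1 this

theorem centralizer_central : Subgroup.centralizer ({(gen 0)} : Set Fi22) = subA := by
  ext g
  rw [Subgroup.mem_centralizer_singleton_iff]
  refine ⟨fun h => (setupA.mem_iff g).mpr (Fi22Pres.graph.injective ?_), fun h => comm_central g h⟩
  rw [← setupA.conj_eq_conjAt comm_central, setupA.conjAt_base, h, mul_inv_cancel_right]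

theorem centralizer_conj (c : Fi22) :
    Subgroup.centralizer ({c * (gen 0) * c⁻¹} : Set Fi22) = subA.map (MulAut.conj c).toMonoidHom := by
  ext g
  rw [← centralizer_central, Subgroup.mem_map_equiv, Subgroup.mem_centralizer_singleton_iff,
    Subgroup.mem_centralizer_singleton_iff, MulAut.conj_symm_apply]
  constructor <;> intro h
  · calc c⁻¹ * g * c * (gen 0) = c⁻¹ * (g * (c * (gen 0) * c⁻¹)) * c := by group
      _ = c⁻¹ * (c * (gen 0) * c⁻¹ * g) * c := by rw [h]
      _ = (gen 0) * (c⁻¹ * g * c) := by group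
  · calc g * (c * (gen 0) * c⁻¹) = c * (c⁻¹ * g * c * (gen 0)) * c⁻¹ := by group
      _ = c * ((gen 0) * (c⁻¹ * g * c)) * c⁻¹ := by rw [h]
      _ = c * (gen 0) * c⁻¹ * g := by group

/-- a non-split double cover stays one under an isomorphism -/
theorem cover_transport {A B K : Type*} [Group A] [Group B] [Group K] (e : A ≃* B)
    (h : Cfsg.IsNonsplitDoubleCover A K) : Cfsg.IsNonsplitDoubleCover B K := by
  have hc : (Subgroup.center A).map e.toMonoidHom = Subgroup.center B := by
    ext x
    rw [Subgroup.mem_map_equiv, Subgroup.mem_center_iff, Subgroup.mem_center_iff]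
    constructor
    · intro hx y; apply e.symm.injective; rw [map_mul, map_mul]; exact hx _
    · intro hx y; apply e.injective; rw [map_mul, map_mul, MulEquiv.apply_symm_apply]; exact hx _
  obtain ⟨h1, ⟨q⟩, h3⟩ := h
  refine ⟨?_, ⟨(QuotientGroup.congr (Subgroup.center A) (Subgroup.center B) e hc).symm.trans q⟩,
    fun L hL => h3 (L.map e.symm.toMonoidHom) ?_⟩
  · rw [← hc, ← h1]
    exact (Nat.card_congr ((Subgroup.center A).equivMapOfInjective _ e.injective).toEquiv).symm
  · haveI : Finite (Subgroup.center A) := Nat.finite_of_card_ne_zero (by omega)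
    have e1 : (Subgroup.center B).map e.symm.toMonoidHom = Subgroup.center A := by
      rw [← hc, Subgroup.map_map]
      convert Subgroup.map_id _
      ext; simp
    rw [← e1]
    refine Subgroup.isComplement'_def.mpr ?_
    obtain ⟨hi, hs⟩ := Subgroup.isComplement'_def.mp hL
    constructor
    · rintro ⟨⟨a, x, hx, rfl⟩, ⟨b, y, hy, rfl⟩⟩ ⟨⟨a', x', hx', rfl⟩, ⟨b', y', hy', rfl⟩⟩ hab
      have := @hi (⟨x, hx⟩, ⟨y, hy⟩) (⟨x', hx'⟩, ⟨y', hy'⟩) (e.symm.injective (by simpa using hab))
      simp only [Prod.mk.injEq, Subtype.mk.injEq] at this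
      simp [this.1, this.2]
    · intro g
      obtain ⟨⟨⟨x, hx⟩, ⟨y, hy⟩⟩, hxy⟩ := hs (e g)
      refine ⟨(⟨_, x, hx, rfl⟩, ⟨_, y, hy, rfl⟩), ?_⟩
      simp only at hxy ⊢
      simp [← map_mul, hxy]

theorem fi22_realization : ∃ (G : Type) (_ : Group G) (_ : Finite G), Cfsg.IsFi22 G ∧ ∃ D : Set G,
    Cfsg.IsThreeTranspositionClass D ∧ Nat.card D = 3510 ∧ ∀ d ∈ D, ∃ (F : Type) (_ : Field F)
      (_ : Fintype F), Fintype.card F = 4 ∧
        Cfsg.IsNonsplitDoubleCover (Subgroup.centralizer ({d} : Set G)) (Cfsg.PSU 6 F 2) := by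
  refine ⟨Fi22, inferInstance, finite_and_card.1, isFi22, transClass, transClass_three, transClass_card,
    fun d hd => ?_⟩
  obtain ⟨c, rfl⟩ := isConj_iff.mp (hd : IsConj (gen 0) d)
  refine ⟨K4, inferInstance, inferInstance, K4.card_eq, ?_⟩
  rw [centralizer_conj]
  exact cover_transport (subA.equivMapOfInjective _ (MulAut.conj c).injective) subA_cover

end CfsgLib.Fi22USix
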